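import Groth.Agent.H1PtInt.General
import Groth.Agent.W4Lib.Flat
import Groth.Agent.FibDim.Top

/-!
# Closed subschemes universally open at a maximal point of a reduced fibre
-/

set_option autoImplicit false
set_option linter.style.haveILetI false

universe u

open CategoryTheory Limits AlgebraicGeometry IsLocalRing TensorProduct TopologicalSpace

namespace Groth.Agent.H1PtInt

/-- A surjection onto a flat algebra which is injective on closed fibres is injective. -/
theorem injective_of_closedFibre {A S S' : Type u} [CommRing A] [IsLocalRing A]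
    [CommRing S] [IsLocalRing S] [IsNoetherianRing S] [Algebra A S] [IsLocalHom (algebraMap A S)]
    [CommRing S'] [Algebra A S'] [Module.Flat A S'] (π : S →ₐ[A] S') (hπ : Function.Surjective π)
    (h : Function.Injective (π.toLinearMap.lTensor (ResidueField A))) : Function.Injective π := by
  let I : Ideal S := RingHom.ker π.toRingHom
  let J : Ideal S := (maximalIdeal A).map (algebraMap A S)
  let IA : Submodule A S := LinearMap.ker π.toLinearMap
  have hι : Function.Injective (IA.subtype.lTensor (ResidueField A)) :=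
    W4Lib.lTensor_injective_of_flat_quotient Subtype.val_injective
      (LinearMap.exact_subtype_ker_map π.toLinearMap) hπ _
  have h0 : ∀ t : ResidueField A ⊗[A] IA, t = 0 := fun t => by
    refine hι (h ?_)
    rw [map_zero, map_zero, ← LinearMap.comp_apply, ← LinearMap.lTensor_comp,
      show π.toLinearMap ∘ₗ IA.subtype = 0 from LinearMap.ext fun a => a.2,
      LinearMap.lTensor_zero, LinearMap.zero_apply]
  have hle : I ≤ J • I := by
    intro a ha
    have h1 : (Submodule.Quotient.mk (⟨a, ha⟩ : IA) : IA ⧸ (maximalIdeal A • ⊤ : Submodule A IA)) = 0 := by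
      have h2 := congrArg (TensorProduct.quotTensorEquivQuotSMul IA (maximalIdeal A))
        (h0 ((1 : ResidueField A) ⊗ₜ[A] (⟨a, ha⟩ : IA)))
      refine Eq.trans ?_ (h2.trans (LinearEquiv.map_zero _))
      exact ((TensorProduct.quotTensorEquivQuotSMul_mk_tmul (maximalIdeal A) (1 : A) (⟨a, ha⟩ : IA)).trans
        (by rw [one_smul])).symm
    rw [Submodule.Quotient.mk_eq_zero] at h1
    suffices key : ∀ b : IA, b ∈ (maximalIdeal A • ⊤ : Submodule A IA) → (b : S) ∈ J • I from key _ h1
    intro b hb
    refine Submodule.smul_induction_on hb (fun r hr c _ => ?_) fun c d hc hd => add_mem hc hd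
    show r • (c : S) ∈ J • I
    rw [show r • (c : S) = algebraMap A S r • (c : S) from (algebraMap_smul S r (c : S)).symm]
    exact Submodule.smul_mem_smul (Ideal.mem_map_of_mem (algebraMap A S) hr) (show (c : S) ∈ I from c.2)
  have hJ : J ≤ Ideal.jacobson ⊥ := by
    rw [IsLocalRing.jacobson_eq_maximalIdeal ⊥ bot_ne_top, Ideal.map_le_iff_le_comap]
    intro a ha
    exact map_nonunit (algebraMap A S) a ha
  have hI : I = ⊥ := Submodule.eq_bot_of_le_smul_of_le_jacobson_bot J I (IsNoetherian.noetherian I) hle hJ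
  exact (RingHom.injective_iff_ker_eq_bot π.toRingHom).2 hI

/-- A surjection with nonzero closed fibre, the closed fibre upstairs being a field. -/
theorem bijective_closedFibre {A S S' : Type u} [CommRing A] [IsLocalRing A]
    [CommRing S] [Algebra A S] [CommRing S'] [Algebra A S'] (π : S →ₐ[A] S') (hπ : Function.Surjective π)
    (hfld : IsField (ResidueField A ⊗[A] S)) [Nontrivial (ResidueField A ⊗[A] S')] :
    Function.Bijective (Algebra.TensorProduct.map (AlgHom.id (ResidueField A) (ResidueField A)) π) ∧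
      Function.Injective (π.toLinearMap.lTensor (ResidueField A)) := by
  let θ := Algebra.TensorProduct.map (AlgHom.id (ResidueField A) (ResidueField A)) π
  have hθ : Function.Injective θ := by
    letI := hfld.toField
    exact θ.toRingHom.injective
  have heq : ∀ t, θ t = π.toLinearMap.lTensor (ResidueField A) t := fun t => by
    induction t using TensorProduct.induction_on with
    | zero => simp
    | tmul r b => rfl
    | add a b ha hb => rw [map_add, map_add, ha, hb]
  refine ⟨⟨hθ, fun t => ?_⟩, fun a b hab => hθ (by rw [heq, heq, hab])⟩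
  obtain ⟨u, hu⟩ := LinearMap.lTensor_surjective (ResidueField A) (g := π.toLinearMap) hπ t
  exact ⟨u, (heq u).trans hu⟩

variable {X Y : Scheme.{u}}

/-- A closed subscheme, universally open over the base at a point maximal in a geometrically reduced fibre,
is all of the scheme near the point. -/
theorem stalk_of_closed_univOpen [IsLocallyNoetherian Y] {C : Scheme.{u}} (c : C ⟶ X) [IsClosedImmersion c]
    (q : X ⟶ Y) [LocallyOfFiniteType q] (w : C)
    (hm : ∀ v : X, v ⤳ c.base w → q.base v = q.base (c.base w) → v = c.base w)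
    (hE : GeomRedFlat5.E q (c.base w)) (hopen : EGA43.IsUnivOpenAt (c ≫ q) w)
    (hred : _root_.IsReduced (Y.presheaf.stalk (q.base (c.base w)))) :
    (q.stalkMap (c.base w)).hom.Flat ∧ ∀ v : X, v ⤳ c.base w → v ∈ Set.range c.base := by
  let g := c ≫ q
  let z := c.base w
  haveI : IsLocallyNoetherian X := LocallyOfFiniteType.isLocallyNoetherian q
  let A := Y.presheaf.stalk (q.base z)
  let S := X.presheaf.stalk z
  let S' := C.presheaf.stalk w
  letI : Algebra A S := (q.stalkMap z).hom.toAlgebra
  letI : Algebra A S' := (g.stalkMap w).hom.toAlgebra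
  haveI : IsLocalHom (algebraMap A S) := inferInstanceAs (IsLocalHom (q.stalkMap z).hom)
  let π : S →ₐ[A] S' :=
    { (c.stalkMap w).hom with
      commutes' := fun a => (congr($(Scheme.Hom.stalkMap_comp c q w).hom a)).symm }
  have hπ : Function.Surjective π := c.stalkMap_surjective w
  let κ := ResidueField A
  -- the closed fibre of the closed subscheme is not zero
  obtain ⟨_, -, ⟨e'⟩⟩ := @exists_closedFibre_equiv _ _ g w (g.stalkMap w).hom.toAlgebra rfl
  haveI : Nontrivial (κ ⊗[A] S') := e'.toRingEquiv.toEquiv.nontrivial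
  obtain ⟨_, -, ⟨e⟩⟩ := exists_closedFibre_equiv q z (rfl : algebraMap A S = (q.stalkMap z).hom)
  have hfld : IsField (κ ⊗[A] S) := e.toRingEquiv.toMulEquiv.isField (isField_fibre_stalk q z hm hE)
  obtain ⟨hb, hl⟩ := bijective_closedFibre π hπ hfld
  let eθ : κ ⊗[A] S ≃ₐ[κ] κ ⊗[A] S' := AlgEquiv.ofBijective _ hb
  have hEg : GeomRedFlat5.E g w := by
    haveI := (GeomRedFlat5.isGeomReducedAt_fibre_iff q z rfl).1 hE
    have hG : Algebra.IsGeometricallyReduced κ (κ ⊗[A] S') :=
      Algebra.IsGeometricallyReduced.of_injective eθ.symm.toAlgHom eθ.symm.injective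
    exact (@GeomRedFlat5.isGeomReducedAt_fibre_iff _ _ g w (g.stalkMap w).hom.toAlgebra rfl).2 hG
  have hopen' : ∀ t : ↥(g.fiber (g.base w)), g.asFiber w ∈ closure {t} →
      (∀ z' : ↥(g.fiber (g.base w)), t ∈ closure {z'} → z' = t) →
      EGA43.IsUnivOpenAt g ((g.fiberι (g.base w)).base t) := by
    intro t ht _
    have h1 : (g.fiberι (g.base w)).base t ⤳ w := by
      have := (specializes_iff_mem_closure.2 ht).map (g.fiberι (g.base w)).continuous
      rwa [g.fiberι_asFiber] at this
    have h2 : g.base ((g.fiberι (g.base w)).base t) = g.base w := by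
      have : (g.fiberι (g.base w)).base t ∈ g ⁻¹' {g.base w} := by rw [← g.range_fiberι]; exact ⟨t, rfl⟩
      exact this
    have h3 : c.base ((g.fiberι (g.base w)).base t) = z := hm _ (h1.map c.continuous) h2
    rw [c.isClosedEmbedding.injective h3]
    exact hopen
  obtain ⟨U, hwU, hU⟩ := GeomRedFlat5.exists_FE_nhd g w hopen' hEg hred
  haveI : Module.Flat A S' := (hU w hwU).1
  have hinj : Function.Injective π := injective_of_closedFibre π hπ hl
  refine ⟨?_, fun v hv => ?_⟩
  · exact Module.Flat.of_linearEquiv (LinearEquiv.ofBijective π.toLinearMap ⟨hinj, hπ⟩)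
  · have : v ∈ Set.range (X.fromSpecStalk z) := by rw [Scheme.range_fromSpecStalk]; exact hv
    obtain ⟨Q, rfl⟩ := this
    let eπ : S ≃+* S' := RingEquiv.ofBijective (c.stalkMap w).hom ⟨hinj, hπ⟩
    let Q' : Spec (C.presheaf.stalk w) := PrimeSpectrum.comap eπ.symm.toRingHom Q
    refine ⟨C.fromSpecStalk w Q', ?_⟩
    rw [← Scheme.Hom.comp_apply, ← Scheme.SpecMap_stalkMap_fromSpecStalk, Scheme.Hom.comp_apply]
    congr 1
    refine PrimeSpectrum.ext (Ideal.ext fun a => ?_)
    show eπ.symm (eπ a) ∈ Q.asIdeal ↔ a ∈ Q.asIdeal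
    rw [eπ.symm_apply_apply]

/-- Geometric reducedness at a point of a fibre, at the point of the scheme. -/
theorem isGeomReducedAt_fiber_iff (f : X ⟶ Y) {y : Y} (v : ↥(f.fiber y)) :
    FBase.IsGeomReducedAt (f.fiberToSpecResidueField y) v ↔ GeomRedFlat5.E f ((f.fiberι y).base v) := by
  have hy : f.base ((f.fiberι y).base v) = y := by
    have : (f.fiberι y).base v ∈ f ⁻¹' {y} := by rw [← f.range_fiberι]; exact ⟨v, rfl⟩
    exact this
  suffices key : ∀ (z : X) (y : Y) (v : ↥(f.fiber y)), f.base z = y → (f.fiberι y).base v = z →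
      (FBase.IsGeomReducedAt (f.fiberToSpecResidueField y) v ↔ GeomRedFlat5.E f z) from key _ y v hy rfl
  rintro z _ v rfl hv
  rw [show v = f.asFiber z from
    (f.fiberι _).isEmbedding.injective (hv.trans (f.fiberι_asFiber z).symm)]

/-- The admissible components through a point with a unique component of the fibre, generically reduced. -/
theorem admissible [IrreducibleSpace Y] [IsLocallyNoetherian Y] (f : X ⟶ Y) [LocallyOfFiniteType f]
    (x z₀ : X) (hz₀x : z₀ ⤳ x) (hfz₀ : f.base z₀ = f.base x)
    (hm : ∀ v : X, v ⤳ z₀ → f.base v = f.base z₀ → v = z₀) (hE : GeomRedFlat5.E f z₀)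
    (X' : Closeds X) (hX' : z₀ ∈ X')
    (hopen : ∀ w : ↥(Scheme.IdealSheafData.vanishingIdeal X').subscheme,
      (Scheme.IdealSheafData.vanishingIdeal X').subschemeι.base w = z₀ →
      EGA43.IsUnivOpenAt ((Scheme.IdealSheafData.vanishingIdeal X').subschemeι ≫ f) w) :
    ∀ v : X, v ⤳ z₀ → v ∈ X' ∧ GeomRedFlat5.E f v := by
  let j := (Scheme.IdealSheafData.vanishingIdeal (⊤ : Closeds Y)).subschemeι
  haveI : IsReduced (Scheme.IdealSheafData.vanishingIdeal (⊤ : Closeds Y)).subscheme :=
    H23.RedSub.isReduced_vanishingIdeal _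
  haveI : Surjective j := ⟨Set.range_eq_univ.1 (H23.RedSub.range_vanishingIdeal _)⟩
  haveI := LocallyOfFiniteType.isLocallyNoetherian j
  let i := (Scheme.IdealSheafData.vanishingIdeal X').subschemeι
  haveI : IsReduced (Scheme.IdealSheafData.vanishingIdeal X').subscheme :=
    H23.RedSub.isReduced_vanishingIdeal _
  have hri : Set.range i.base = (X' : Set X) := H23.RedSub.range_vanishingIdeal _
  obtain ⟨g, hg⟩ := H23.RedSub.exists_lift_closed (i ≫ f) j fun y _ => by
    rw [Set.range_eq_univ.2 j.surjective]; trivial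
  let p := pullback.fst f j
  let q := pullback.snd f j
  haveI : IsClosedImmersion p := MorphismProperty.pullback_fst _ _ inferInstance
  haveI : Surjective p := MorphismProperty.pullback_fst _ _ inferInstance
  haveI : LocallyOfFiniteType q := MorphismProperty.pullback_snd _ _ inferInstance
  let c := pullback.lift i g hg.symm
  have hcp : c ≫ p = i := pullback.lift_fst _ _ _
  have hcq : c ≫ q = g := pullback.lift_snd _ _ _
  haveI : IsClosedImmersion (c ≫ p) := hcp ▸ inferInstance
  haveI : IsClosedImmersion c := IsClosedImmersion.of_comp_isClosedImmersion c p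
  obtain ⟨w, hw⟩ : z₀ ∈ Set.range i.base := hri ▸ hX'
  have hpw : p.base (c.base w) = z₀ := by
    rw [← Scheme.Hom.comp_apply, hcp]; exact hw
  have hjq : ∀ u, j.base (q.base u) = f.base (p.base u) := fun u => by
    rw [← Scheme.Hom.comp_apply, ← Scheme.Hom.comp_apply, pullback.condition]
  have hm' : ∀ v, v ⤳ c.base w → q.base v = q.base (c.base w) → v = c.base w := fun v hv hqv => by
    refine p.isClosedEmbedding.injective ?_
    show p.base v = p.base (c.base w)
    rw [hpw]
    refine hm _ (hpw ▸ hv.map p.continuous) ?_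
    rw [← hjq, hqv, hjq, hpw]
  have hE' : GeomRedFlat5.E q (c.base w) :=
    (GeomRedFlat5.E_iff_of_isPullback (IsPullback.of_hasPullback f j) (c.base w)).2 (hpw.symm ▸ hE)
  have hopen' : EGA43.IsUnivOpenAt (c ≫ q) w := by
    rw [hcq]
    exact QHomeo.univOpenAt_of_isPullback (hopen w hw)
      (IsPullback.of_horiz_isIso_mono ⟨(Category.id_comp _).trans hg.symm⟩) w rfl
  obtain ⟨hflat, hrange⟩ := stalk_of_closed_univOpen c q w hm' hE' hopen' inferInstance
  intro v hv
  obtain ⟨v₁, rfl⟩ := p.surjective v
  have hv₁ : v₁ ⤳ c.base w := by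
    refine p.isClosedEmbedding.isInducing.specializes_iff.1 ?_
    show p.base v₁ ⤳ p.base (c.base w)
    rw [hpw]; exact hv
  refine ⟨?_, (GeomRedFlat5.E_iff_of_isPullback (IsPullback.of_hasPullback f j) v₁).1
    (GeomRedFlat5.E_of_specializes q hv₁ hflat hE')⟩
  obtain ⟨w', rfl⟩ := hrange v₁ hv₁
  show p.base (c.base w') ∈ (X' : Set X)
  rw [← hri, ← Scheme.Hom.comp_apply, hcp]
  exact ⟨w', rfl⟩

end Groth.Agent.H1PtInt
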