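import Groth.Agent.GeomRedFlat5.Fibres
import Groth.Agent.GeomRedFlat5.DvrStep

/-!
# Minimal primes of a flat local algebra with geometrically integral closed fibre
-/

set_option autoImplicit false
set_option linter.style.haveILetI false

universe u

open IsLocalRing TensorProduct

namespace Groth.Agent.H1PtInt

/-- A Noetherian local ring with a regular element generating a prime is a domain. -/
theorem isDomain_of_prime_span {R : Type u} [CommRing R] [IsNoetherianRing R] [IsLocalRing R] {t : R}
    (hreg : ∀ w : R, t * w = 0 → w = 0) [hp : (Ideal.span {t}).IsPrime] : IsDomain R := by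
  classical
  have hpow : ∀ (n : ℕ) (w : R), t ^ n * w = 0 → w = 0 := by
    intro n
    induction n with
    | zero => intro w h; simpa using h
    | succ n ih => intro w h; rw [pow_succ, mul_assoc] at h; exact hreg w (ih _ h)
  have key : ∀ a : R, a ≠ 0 → ∃ (n : ℕ) (c : R), c ∉ Ideal.span {t} ∧ a = t ^ n * c := by
    intro a ha
    have hex : ∃ n : ℕ, ¬ t ^ n ∣ a := by
      by_contra hall
      simp only [not_exists, not_not] at hall
      have hmem : a ∈ ⨅ i : ℕ, Ideal.span {t} ^ i := (Submodule.mem_iInf _).2 fun i => by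
        rw [Ideal.span_singleton_pow, Ideal.mem_span_singleton]
        exact hall i
      rw [Ideal.iInf_pow_eq_bot_of_isLocalRing _ hp.ne_top] at hmem
      exact ha hmem
    obtain ⟨k, hk⟩ := Nat.exists_eq_succ_of_ne_zero (show Nat.find hex ≠ 0 from fun h => by
      have := Nat.find_spec hex
      rw [h, pow_zero] at this
      exact this (one_dvd a))
    obtain ⟨c, hc⟩ := not_not.1 (Nat.find_min hex (show k < Nat.find hex by omega))
    refine ⟨k, c, fun hc' => ?_, hc⟩
    obtain ⟨d, hd⟩ := Ideal.mem_span_singleton.1 hc'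
    refine Nat.find_spec hex ⟨d, ?_⟩
    rw [hk, hc, hd, pow_succ]
    ring
  haveI : NoZeroDivisors R := ⟨fun {a b} hab => by
    by_contra hne
    obtain ⟨hane, hbne⟩ := not_or.1 hne
    obtain ⟨n, c, hc, rfl⟩ := key a hane
    obtain ⟨m, d, hd, rfl⟩ := key b hbne
    have h0 : c * d = 0 := hpow (n + m) _ (by rw [← hab, pow_add]; ring)
    exact (hp.mem_or_mem (h0 ▸ zero_mem _ : c * d ∈ Ideal.span {t})).elim hc hd⟩
  exact NoZeroDivisors.to_isDomain R

/-- Over a discrete valuation ring: a point of the special fibre at which the special fibre is a domain. -/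
theorem isDomain_localization_of_special {V W F : Type u} [CommRing V] [IsDomain V] [IsDiscreteValuationRing V]
    [CommRing W] [IsNoetherianRing W] [Algebra V W] [Module.Flat V W] [CommRing F] (θ : W →+* F)
    (hθ : Function.Surjective θ) (hker : RingHom.ker θ = (maximalIdeal V).map (algebraMap V W))
    (M : Ideal W) [M.IsPrime] (q : Ideal F) [q.IsPrime] (hq : q.comap θ = M)
    (hdom : IsDomain (Localization.AtPrime q)) : IsDomain (Localization.AtPrime M) := by
  obtain ⟨π, hπ⟩ := IsDiscreteValuationRing.exists_irreducible V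
  let T := Localization.AtPrime M
  let t : T := algebraMap W T (algebraMap V W π)
  haveI : Module.Flat V T := Module.Flat.trans V W T
  have hreg : ∀ w : T, t * w = 0 → w = 0 := fun w h => by
    have hr := Module.Flat.isSMulRegular_of_nonZeroDivisors (M := T) (mem_nonZeroDivisors_of_ne_zero hπ.ne_zero)
    refine hr ?_
    show π • w = π • (0 : T)
    rw [smul_zero, Algebra.smul_def, IsScalarTower.algebraMap_apply V W T]
    exact h
  let g : T →+* Localization.AtPrime q := Localization.localRingHom M q θ hq.symm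
  have hk : RingHom.ker g = Ideal.span {t} := by
    apply le_antisymm
    · intro x hx
      obtain ⟨⟨w, s⟩, hws⟩ := IsLocalization.surj M.primeCompl x
      have h1 : algebraMap F (Localization.AtPrime q) (θ w) = 0 := by
        rw [← Localization.localRingHom_to_map M q θ hq.symm, ← hws]
        show g (x * _) = 0
        rw [map_mul, RingHom.mem_ker.1 hx, zero_mul]
      obtain ⟨v, hv⟩ := (IsLocalization.map_eq_zero_iff q.primeCompl _ _).1 h1
      obtain ⟨u, hu⟩ := hθ v
      have huM : u ∈ M.primeCompl := fun h => v.2 (by rw [← hu]; exact (hq.symm ▸ h : u ∈ q.comap θ))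
      have h2 : u * w ∈ (maximalIdeal V).map (algebraMap V W) := by
        rw [← hker, RingHom.mem_ker, map_mul, hu]; exact hv
      rw [(IsDiscreteValuationRing.irreducible_iff_uniformizer π).1 hπ, Ideal.map_span, Set.image_singleton,
        Ideal.mem_span_singleton'] at h2
      obtain ⟨c, hc⟩ := h2
      obtain ⟨iv, hiv⟩ := isUnit_iff_exists_inv.1
        ((IsLocalization.map_units T (⟨u, huM⟩ : M.primeCompl)).mul (IsLocalization.map_units T s))
      rw [Ideal.mem_span_singleton']
      refine ⟨algebraMap W T c * iv, ?_⟩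
      calc algebraMap W T c * iv * t = algebraMap W T (c * algebraMap V W π) * iv := by rw [map_mul]; ring
        _ = algebraMap W T u * algebraMap W T w * iv := by rw [hc, map_mul]
        _ = x * (algebraMap W T u * algebraMap W T s * iv) := by rw [← hws]; ring
        _ = x := by rw [hiv, mul_one]
    · rw [Ideal.span_singleton_le_iff_mem, RingHom.mem_ker]
      show g (algebraMap W T _) = 0
      rw [Localization.localRingHom_to_map]
      have : algebraMap V W π ∈ RingHom.ker θ := by
        rw [hker]; exact Ideal.mem_map_of_mem _ ((mem_maximalIdeal π).2 hπ.not_isUnit)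
      rw [RingHom.mem_ker.1 this, map_zero]
  haveI : (Ideal.span {t}).IsPrime := hk ▸ RingHom.ker_isPrime g
  haveI : IsNoetherianRing T := IsLocalization.isNoetherianRing M.primeCompl T inferInstance
  exact isDomain_of_prime_span hreg

section

variable {A S : Type u} [CommRing A] [IsDomain A] [IsLocalRing A] [IsNoetherianRing A]
  [CommRing S] [Algebra A S] [IsLocalRing S] [IsLocalHom (algebraMap A S)] [Algebra.EssFiniteType A S]
  [Module.Flat A S]

theorem mem_map_of_tmul_eq_zero (a : S) (h : (1 : ResidueField A) ⊗ₜ[A] a = 0) :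
    a ∈ (maximalIdeal A).map (algebraMap A S) := by
  have h1 : (Submodule.Quotient.mk a : S ⧸ (maximalIdeal A • ⊤ : Submodule A S)) = 0 := by
    have h2 := congrArg (TensorProduct.quotTensorEquivQuotSMul S (maximalIdeal A)) h
    refine Eq.trans ?_ (h2.trans (LinearEquiv.map_zero _))
    exact ((TensorProduct.quotTensorEquivQuotSMul_mk_tmul (maximalIdeal A) (1 : A) a).trans (by rw [one_smul])).symm
  rw [Submodule.Quotient.mk_eq_zero, Ideal.smul_top_eq_map] at h1
  exact h1

/-- Every minimal prime lies in the prime of the closed fibre. -/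
theorem minimalPrime_le (hS : IsDomain (ResidueField A ⊗[A] S))
    (hgi : ∀ (K : Type u) [Field K] [Algebra A K], (∀ a ∈ maximalIdeal A, algebraMap A K a = 0) →
      ∀ (q : Ideal (K ⊗[A] S)) [q.IsPrime],
        q.comap (Algebra.TensorProduct.includeRight : S →ₐ[A] K ⊗[A] S).toRingHom = maximalIdeal S →
          IsDomain (Localization.AtPrime q))
    (P : Ideal S) (hP : P ∈ minimalPrimes S) : P ≤ (maximalIdeal A).map (algebraMap A S) := by
  classical
  haveI := hP.1.1
  haveI : IsNoetherianRing S := Algebra.EssFiniteType.isNoetherianRing A S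
  by_cases hA : maximalIdeal A = ⊥
  · haveI := hS
    have hinj : Function.Injective (Algebra.TensorProduct.includeRight : S →ₐ[A] ResidueField A ⊗[A] S) := by
      rw [injective_iff_map_eq_zero]
      intro a ha
      have := mem_map_of_tmul_eq_zero a ha
      rwa [hA, Ideal.map_bot, Ideal.mem_bot] at this
    haveI : IsDomain S := Function.Injective.isDomain _ hinj
    rw [IsDomain.minimalPrimes_eq_singleton_bot, Set.mem_singleton_iff] at hP
    rw [hP]; exact bot_le
  obtain ⟨a₀, ha₀, ha₀0⟩ := Submodule.exists_mem_ne_zero_of_ne_bot hA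
  have hnz : ∀ a : A, a ≠ 0 → algebraMap A S a ∉ P := fun a ha h => by
    have hr := Module.Flat.isSMulRegular_of_nonZeroDivisors (M := S) (mem_nonZeroDivisors_of_ne_zero ha)
    refine Set.disjoint_left.1 (Ideal.disjoint_nonZeroDivisors_of_mem_minimalPrimes hP) h ?_
    show algebraMap A S a ∈ nonZeroDivisors S
    rw [mem_nonZeroDivisors_iff_right]
    intro x hx
    refine hr (show a • x = a • 0 from ?_)
    rw [smul_zero, Algebra.smul_def, mul_comm]
    exact hx
  let D := S ⧸ P
  let L := FractionRing D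
  let K := FractionRing A
  have hAL : Function.Injective (algebraMap A L) := by
    rw [injective_iff_map_eq_zero]
    intro a ha
    by_contra h0
    rw [IsScalarTower.algebraMap_apply A D L, map_eq_zero_iff _ (IsFractionRing.injective D L),
      IsScalarTower.algebraMap_apply A S D] at ha
    exact hnz a h0 (Ideal.Quotient.eq_zero_iff_mem.1 ha)
  let χK : K →ₐ[A] L := IsFractionRing.liftAlgHom (K := K) (g := Algebra.ofId A L) hAL
  let χS : S →ₐ[A] L := (IsScalarTower.toAlgHom A D L).comp (Ideal.Quotient.mkₐ A P)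
  haveI : IsLocalRing D := IsLocalRing.of_surjective' (Ideal.Quotient.mk P) Ideal.Quotient.mk_surjective
  haveI : IsLocalHom (Ideal.Quotient.mk P) := IsLocalHom.of_surjective _ Ideal.Quotient.mk_surjective
  have hnD : ∀ s : S, Ideal.Quotient.mk P s ∈ maximalIdeal D ↔ s ∈ maximalIdeal S := fun s =>
    ⟨fun h hu => h (hu.map _), fun h hu => h (isUnit_of_map_unit (Ideal.Quotient.mk P) s hu)⟩
  have hAn : ∀ a ∈ maximalIdeal A, Ideal.Quotient.mk P (algebraMap A S a) ∈ maximalIdeal D :=
    fun a ha => (hnD _).2 (map_nonunit _ a ha)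
  have hn0 : maximalIdeal D ≠ ⊥ := fun h => by
    have h1 := hAn a₀ ha₀
    rw [h, Ideal.mem_bot, Ideal.Quotient.eq_zero_iff_mem] at h1
    exact hnz a₀ ha₀0 h1
  obtain ⟨V₀, hV₀, hV₀n⟩ := Rat20Lib.exists_dvr_centre (K := L) (maximalIdeal D) hn0
  have hAV₀ : ∀ a : A, algebraMap A L a ∈ V₀ := fun a => by
    rw [IsScalarTower.algebraMap_apply A D L]
    exact (hV₀n _).1
  have hAnu : ∀ a ∈ maximalIdeal A, (⟨algebraMap A L a, hAV₀ a⟩ : V₀) ∈ maximalIdeal V₀ := fun a ha => by
    rw [← ValuationSubring.coe_mem_nonunits_iff, show ((⟨algebraMap A L a, hAV₀ a⟩ : V₀) : L) =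
      algebraMap D L (algebraMap A D a) from IsScalarTower.algebraMap_apply A D L a]
    exact (hV₀n _).2.2 (hAn a ha)
  let V := V₀.comap χK.toRingHom
  have hAV : ∀ a : A, algebraMap A K a ∈ V := fun a => by
    show χK (algebraMap A K a) ∈ V₀
    rw [χK.commutes]; exact hAV₀ a
  letI : Algebra A V := ((algebraMap A K).codRestrict V hAV).toAlgebra
  haveI : IsScalarTower A V K := IsScalarTower.of_algebraMap_eq fun _ => rfl
  have ha₀K : algebraMap A K a₀ ≠ 0 := fun h => ha₀0
    (IsFractionRing.injective A K (h.trans (map_zero _).symm))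
  haveI : IsDiscreteValuationRing V := GeomRedFlat5.isDiscreteValuationRing_comap χK.toRingHom V₀
    (c := algebraMap A K a₀) (hAV a₀) (by
      have h := hAnu a₀ ha₀
      have e : (⟨χK.toRingHom (algebraMap A K a₀), hAV a₀⟩ : V₀) = ⟨algebraMap A L a₀, hAV₀ a₀⟩ :=
        Subtype.ext (χK.commutes a₀)
      rw [e]; exact h) ha₀K
  let toV₀ : V →ₐ[A] L := χK.comp (IsScalarTower.toAlgHom A V K)
  let ψL : V ⊗[A] S →ₐ[A] L := Algebra.TensorProduct.lift toV₀ χS (fun _ _ => Commute.all _ _)
  have hψmem : ∀ y, ψL y ∈ V₀ := by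
    intro y
    induction y using TensorProduct.induction_on with
    | zero => rw [map_zero]; exact V₀.zero_mem
    | tmul v s =>
      rw [Algebra.TensorProduct.lift_tmul]
      exact V₀.mul_mem _ _ v.2 (hV₀n (Ideal.Quotient.mk P s)).1
    | add a b ha hb => rw [map_add]; exact V₀.add_mem _ _ ha hb
  let ψ : V ⊗[A] S →+* V₀ := ψL.toRingHom.codRestrict V₀ hψmem
  let M : Ideal (V ⊗[A] S) := (maximalIdeal V₀).comap ψ
  haveI : M.IsPrime := Ideal.IsPrime.comap _
  have hvloc : ∀ a ∈ maximalIdeal A, algebraMap A V a ∈ maximalIdeal V := fun a ha =>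
    (GeomRedFlat5.mem_maximalIdeal_of_comap χK.toRingHom V₀ (algebraMap A V a) ⟨algebraMap A L a, hAV₀ a⟩
      (χK.commutes a).symm).2 (hAnu a ha)
  have hMle : (maximalIdeal V).map (algebraMap V (V ⊗[A] S)) ≤ M := by
    rw [Ideal.map_le_iff_le_comap]
    intro v hv
    refine (GeomRedFlat5.mem_maximalIdeal_of_comap χK.toRingHom V₀ v (ψ (v ⊗ₜ 1)) ?_).1 hv
    show ψL (v ⊗ₜ 1) = χK (v : K)
    rw [Algebra.TensorProduct.lift_tmul, map_one, mul_one]
    rfl
  have hMS : ∀ s : S, ((1 : V) ⊗ₜ[A] s) ∈ M ↔ s ∈ maximalIdeal S := fun s => by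
    rw [← hnD, ← (hV₀n (Ideal.Quotient.mk P s)).2]
    show ψ (1 ⊗ₜ s) ∈ maximalIdeal V₀ ↔ _
    rw [← ValuationSubring.coe_mem_nonunits_iff, show ((ψ (1 ⊗ₜ[A] s) : V₀) : L) = algebraMap D L (Ideal.Quotient.mk P s) from ?_]
    show ψL (1 ⊗ₜ s) = _
    rw [Algebra.TensorProduct.lift_tmul, map_one, one_mul]
    rfl
  haveI : IsNoetherianRing (V ⊗[A] S) := Algebra.EssFiniteType.isNoetherianRing V _
  -- the special fibre
  let k' := ResidueField V
  let θ := Algebra.TensorProduct.map (IsScalarTower.toAlgHom A V k') (AlgHom.id A S)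
  have hθker : RingHom.ker θ.toRingHom = (maximalIdeal V).map (algebraMap V (V ⊗[A] S)) := by
    refine (Algebra.TensorProduct.rTensor_ker _ IsLocalRing.residue_surjective).trans ?_
    show Ideal.map _ (RingHom.ker (residue V)) = _
    rw [IsLocalRing.ker_residue]
    rfl
  have hθsurj : Function.Surjective θ.toRingHom := by
    intro z
    induction z using TensorProduct.induction_on with
    | zero => exact ⟨0, map_zero _⟩
    | tmul r s =>
      obtain ⟨v, rfl⟩ := IsLocalRing.residue_surjective r
      exact ⟨v ⊗ₜ s, rfl⟩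
    | add a b ha hb =>
      obtain ⟨a', rfl⟩ := ha
      obtain ⟨b', rfl⟩ := hb
      exact ⟨a' + b', map_add _ _ _⟩
  let q := M.map θ.toRingHom
  have hkM : RingHom.ker θ.toRingHom ≤ M := hθker ▸ hMle
  haveI : q.IsPrime := Ideal.map_isPrime_of_surjective hθsurj hkM
  have hq : q.comap θ.toRingHom = M := by
    rw [Ideal.comap_map_of_surjective _ hθsurj, ← RingHom.ker_eq_comap_bot, sup_eq_left.2 hkM]
  have hk'0 : ∀ a ∈ maximalIdeal A, algebraMap A k' a = 0 := fun a ha => by
    rw [IsScalarTower.algebraMap_apply A V k']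
    exact (IsLocalRing.residue_eq_zero_iff _).2 (hvloc a ha)
  have hqS : q.comap (Algebra.TensorProduct.includeRight : S →ₐ[A] k' ⊗[A] S).toRingHom = maximalIdeal S := by
    ext s
    rw [Ideal.mem_comap, ← hMS s, ← hq, Ideal.mem_comap]
    show _ ↔ θ ((1 : V) ⊗ₜ[A] s) ∈ q
    rw [Algebra.TensorProduct.map_tmul, map_one]
    rfl
  haveI : IsDomain (Localization.AtPrime M) :=
    isDomain_localization_of_special θ.toRingHom hθsurj hθker M q hq (hgi k' hk'0 q hqS)
  -- the elements of the minimal prime
  intro a ha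
  let T := Localization.AtPrime M
  obtain ⟨u, hu, n, hun⟩ : ∃ u ∉ P, ∃ n : ℕ, u * a ^ n = 0 := by
    haveI : Ring.KrullDimLE 0 (Localization.AtPrime P) := Ring.KrullDimLE.of_isLocalization P hP _
    have h1 : IsNilpotent (algebraMap S (Localization.AtPrime P) a) :=
      (Ring.KrullDimLE.isNilpotent_iff_mem_maximalIdeal).2
        ((IsLocalization.AtPrime.to_map_mem_maximal_iff _ P a).2 ha)
    obtain ⟨n, hn⟩ := h1
    rw [← map_pow] at hn
    obtain ⟨v, hv⟩ := (IsLocalization.map_eq_zero_iff P.primeCompl _ _).1 hn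
    exact ⟨v, v.2, n, hv⟩
  have h0 : algebraMap (V ⊗[A] S) T (((1 : V) ⊗ₜ[A] u) * ((1 : V) ⊗ₜ[A] a) ^ n) = 0 := by
    rw [Algebra.TensorProduct.tmul_pow, one_pow, Algebra.TensorProduct.tmul_mul_tmul, one_mul, hun, tmul_zero,
      map_zero]
  have hu0 : algebraMap (V ⊗[A] S) T ((1 : V) ⊗ₜ[A] u) ≠ 0 := fun h => by
    obtain ⟨v, hv⟩ := (IsLocalization.map_eq_zero_iff M.primeCompl _ _).1 h
    have h1 := congrArg ψL hv
    rw [map_mul, map_zero, mul_eq_zero] at h1
    rcases h1 with h1 | h1
    · refine v.2 ?_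
      show ψ v ∈ maximalIdeal V₀
      rw [show ψ v = 0 from Subtype.ext h1]
      exact zero_mem _
    · rw [Algebra.TensorProduct.lift_tmul, map_one, one_mul] at h1
      exact hu (Ideal.Quotient.eq_zero_iff_mem.1 ((map_eq_zero_iff _ (IsFractionRing.injective D L)).1 h1))
  rw [map_mul, map_pow, mul_eq_zero, or_iff_right hu0] at h0
  obtain ⟨v, hv⟩ := (IsLocalization.map_eq_zero_iff M.primeCompl _ _).1 (eq_zero_of_pow_eq_zero h0)
  have hv1 := congrArg θ hv
  rw [map_mul, map_zero, Algebra.TensorProduct.map_tmul, map_one] at hv1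
  -- comparison with the closed fibre
  apply mem_map_of_tmul_eq_zero
  by_contra hne
  letI : Algebra (ResidueField A) k' :=
    (Ideal.Quotient.lift (maximalIdeal A) (algebraMap A k') hk'0 : ResidueField A →+* k').toAlgebra
  haveI : IsScalarTower A (ResidueField A) k' := IsScalarTower.of_algebraMap_eq fun _ => rfl
  let e := Algebra.TensorProduct.cancelBaseChange A (ResidueField A) k' k' S
  let ab : ResidueField A ⊗[A] S := 1 ⊗ₜ a
  haveI := hS
  have h2 : e.symm (θ v) * ((1 : k') ⊗ₜ[ResidueField A] ab) = 0 := by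
    rw [← map_zero e.symm, ← hv1, map_mul]
    congr 1
  have hinj : Function.Injective ((LinearMap.mulLeft (ResidueField A) ab).lTensor k') :=
    Module.Flat.lTensor_preserves_injective_linearMap (M := k') _ (mul_right_injective₀ hne)
  have h3 : ∀ z : k' ⊗[ResidueField A] (ResidueField A ⊗[A] S),
      (LinearMap.mulLeft (ResidueField A) ab).lTensor k' z = z * ((1 : k') ⊗ₜ[ResidueField A] ab) := by
    intro z
    induction z using TensorProduct.induction_on with
    | zero => simp
    | tmul r s => rw [LinearMap.lTensor_tmul, LinearMap.mulLeft_apply, Algebra.TensorProduct.tmul_mul_tmul,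
        mul_one, mul_comm]
    | add p q hp hq => rw [map_add, hp, hq, add_mul]
  rw [← h3, ← map_zero ((LinearMap.mulLeft (ResidueField A) ab).lTensor k')] at h2
  have h4 : θ v = 0 := by
    rw [← e.apply_symm_apply (θ v), hinj h2, map_zero]
  exact v.2 (hkM (RingHom.mem_ker.2 h4))

end

end Groth.Agent.H1PtInt
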