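import Groth.Agent.GeomRedFlat5.Bridge
import Groth.Agent.FBaseLib.LocalPoint
import Groth.Agent.FBaseLib.Compositum
import Groth.Agent.FBaseLib.Basic

/-!
# Geometric pointwise integrality of a fibre in terms of local rings
-/

set_option autoImplicit false
set_option linter.style.haveILetI false

universe u

open CategoryTheory Limits AlgebraicGeometry IsLocalRing TensorProduct

namespace Groth.Agent.H1PtInt

/-- Every prime of `O_x ⊗ K` over the closed point gives a point of `X_K` over `x`. -/
theorem exists_point_stalk {k : Type u} [Field k] {X : Scheme.{u}} (f : X ⟶ Spec (CommRingCat.of k)) (x : X)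
    (K : Type u) [Field K] [Algebra k K] [Algebra k (X.presheaf.stalk x)]
    (ha : Spec.map (CommRingCat.ofHom (algebraMap k (X.presheaf.stalk x))) = X.fromSpecStalk x ≫ f)
    (q : Ideal (X.presheaf.stalk x ⊗[k] K)) [hq' : q.IsPrime]
    (hq : q.comap (algebraMap (X.presheaf.stalk x) (X.presheaf.stalk x ⊗[k] K)) =
      IsLocalRing.maximalIdeal (X.presheaf.stalk x)) :
    ∃ x' : ↥(FBase.bc f K), (FBase.bcπ f K).base x' = x ∧
      (IsDomain ((FBase.bc f K).presheaf.stalk x') → IsDomain (Localization.AtPrime q)) := by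
  let j := X.fromSpecStalk x
  let g := Spec.map (CommRingCat.ofHom (algebraMap k K))
  haveI : Flat j := H23.RatExtend.flat_fromSpecStalk X x
  let m := pullback.snd j (pullback.fst f g)
  haveI : IsPreimmersion m := MorphismProperty.pullback_snd _ _ inferInstance
  haveI : Flat m := MorphismProperty.pullback_snd _ _ inferInstance
  let ψ : pullback j (pullback.fst f g) ≅ Spec (CommRingCat.of (X.presheaf.stalk x ⊗[k] K)) :=
    pullbackRightPullbackFstIso f g j ≪≫ pullback.congrHom ha.symm rfl ≪≫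
      pullbackSpecIso k (X.presheaf.stalk x) K
  have hψ : ψ.hom ≫ Spec.map (CommRingCat.ofHom (algebraMap (X.presheaf.stalk x) (X.presheaf.stalk x ⊗[k] K))) =
      pullback.fst j (pullback.fst f g) := by
    simp only [ψ, Iso.trans_hom, Category.assoc]
    rw [pullbackSpecIso_hom_fst', pullback.congrHom_hom]
    erw [pullback.lift_fst, Category.comp_id]
    rw [pullbackRightPullbackFstIso_hom_fst]
  let P : Spec (CommRingCat.of (X.presheaf.stalk x ⊗[k] K)) := ⟨q, hq'⟩
  obtain ⟨w, hw⟩ := ψ.hom.homeomorph.surjective P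
  have hw1 : (pullback.fst j (pullback.fst f g)).base w = IsLocalRing.closedPoint (X.presheaf.stalk x) := by
    rw [← hψ]
    show PrimeSpectrum.comap _ (ψ.hom.base w) = _
    rw [show ψ.hom.base w = P from hw]
    exact PrimeSpectrum.ext hq
  refine ⟨m.base w, ?_, fun h => ?_⟩
  · show (pullback.fst f g).base (m.base w) = x
    rw [← Scheme.Hom.comp_apply, ← pullback.condition, Scheme.Hom.comp_apply, hw1]
    exact X.fromSpecStalk_closedPoint
  · haveI h1 : IsDomain ((pullback j (pullback.fst f g)).presheaf.stalk w) :=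
      @MulEquiv.isDomain _ _ _ _ h
        (RingEquiv.ofBijective (m.stalkMap w).hom (AssLib.bijective_stalkMap m w)).symm.toMulEquiv
    haveI h2 : IsDomain ((Spec (CommRingCat.of (X.presheaf.stalk x ⊗[k] K))).presheaf.stalk (ψ.hom.base w)) :=
      (RingEquiv.ofBijective (ψ.hom.stalkMap w).hom (ConcreteCategory.bijective_of_isIso _)).toMulEquiv.isDomain _
    have h3 : IsDomain ((Spec (CommRingCat.of (X.presheaf.stalk x ⊗[k] K))).presheaf.stalk P) :=
      (show ψ.hom.base w = P from hw) ▸ h2
    exact @MulEquiv.isDomain _ _ _ _ h3 (StructureSheaf.stalkIso _ P).toRingEquiv.toMulEquiv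

variable {X Y : Scheme.{u}} (f : X ⟶ Y)

/-- The closed fibre of the local rings is the local ring of the fibre. -/
theorem exists_closedFibre_equiv (x : X) [Algebra (Y.presheaf.stalk (f.base x)) (X.presheaf.stalk x)]
    (hS : algebraMap (Y.presheaf.stalk (f.base x)) (X.presheaf.stalk x) = (f.stalkMap x).hom) :
    ∃ (_ : Algebra (ResidueField (Y.presheaf.stalk (f.base x)))
        ((f.fiber (f.base x)).presheaf.stalk (f.asFiber x))),
      Spec.map (CommRingCat.ofHom (algebraMap (ResidueField (Y.presheaf.stalk (f.base x)))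
          ((f.fiber (f.base x)).presheaf.stalk (f.asFiber x)))) =
        (f.fiber (f.base x)).fromSpecStalk (f.asFiber x) ≫ f.fiberToSpecResidueField (f.base x) ∧
      Nonempty (ResidueField (Y.presheaf.stalk (f.base x)) ⊗[Y.presheaf.stalk (f.base x)] X.presheaf.stalk x
        ≃ₐ[ResidueField (Y.presheaf.stalk (f.base x))] (f.fiber (f.base x)).presheaf.stalk (f.asFiber x)) := by
  let A := Y.presheaf.stalk (f.base x)
  let κ := ResidueField A
  let F := f.fiber (f.base x)
  let t : F ⟶ Spec (CommRingCat.of κ) := f.fiberToSpecResidueField (f.base x)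
  letI : F.Over (Spec (CommRingCat.of κ)) := ⟨t⟩
  let w : F := f.asFiber x
  letI := Curv2.stalkAlgebra κ F w
  have e : f.fiberι (f.base x) w = x := f.fiberι_asFiber x
  let j := X.presheaf.stalkSpecializes (specializes_of_eq e) ≫ (f.fiberι (f.base x)).stalkMap w
  let σ : Y.residueField (f.base x) ⟶ F.presheaf.stalk w := CommRingCat.ofHom (Curv2.stalkMap κ F w)
  have hσ : F.fromSpecStalk w ≫ t = Spec.map σ := by
    rw [GeomRedFlat5.fromSpecStalk_comp_eq]; rfl
  have key : f.stalkMap x ≫ j = Y.residue (f.base x) ≫ σ := by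
    apply Spec.map_injective
    rw [← cancel_mono (Y.fromSpecStalk (f.base x))]
    have l : (Spec.map j ≫ Spec.map (f.stalkMap x)) ≫ Y.fromSpecStalk (f.base x) =
        F.fromSpecStalk w ≫ f.fiberι (f.base x) ≫ f := by
      rw [Category.assoc, Scheme.SpecMap_stalkMap_fromSpecStalk, Spec.map_comp, Category.assoc,
        Scheme.SpecMap_stalkSpecializes_fromSpecStalk_assoc, Scheme.SpecMap_stalkMap_fromSpecStalk_assoc]
    rw [Spec.map_comp, l]
    refine Eq.trans ?_ ((Category.assoc _ _ _).symm.trans (congrArg (· ≫ _) (Spec.map_comp _ _).symm))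
    show F.fromSpecStalk w ≫ f.fiberι (f.base x) ≫ f = Spec.map σ ≫ Y.fromSpecResidueField (f.base x)
    refine Eq.trans ?_ (congrArg (· ≫ Y.fromSpecResidueField (f.base x)) hσ)
    exact (congrArg (F.fromSpecStalk w ≫ ·) (f.fiber_fac (f.base x))).trans (Category.assoc _ _ _).symm
  letI : Algebra A (F.presheaf.stalk w) := ((algebraMap κ (F.presheaf.stalk w)).comp (residue A)).toAlgebra
  haveI : IsScalarTower A κ (F.presheaf.stalk w) := IsScalarTower.of_algebraMap_eq fun _ => rfl
  let jA : X.presheaf.stalk x →ₐ[A] F.presheaf.stalk w :=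
    { j.hom with
      commutes' := fun a => by
        show j.hom (algebraMap A (X.presheaf.stalk x) a) = _
        rw [hS]
        exact congr($key a) }
  let θ : κ ⊗[A] X.presheaf.stalk x →ₐ[κ] F.presheaf.stalk w :=
    Algebra.TensorProduct.lift (Algebra.ofId κ _) jA (fun _ _ => Commute.all _ _)
  have hθr : ∀ s, θ (1 ⊗ₜ s) = j.hom s := fun s => by
    show algebraMap κ _ 1 * jA s = _
    rw [map_one, one_mul]; rfl
  have hone : ∀ z : κ ⊗[A] X.presheaf.stalk x, ∃ s, z = 1 ⊗ₜ s := by
    intro z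
    induction z using TensorProduct.induction_on with
    | zero => exact ⟨0, by simp⟩
    | tmul r s =>
      obtain ⟨a, rfl⟩ := IsLocalRing.residue_surjective r
      exact ⟨a • s, by rw [← smul_tmul, Algebra.smul_def, mul_one]; rfl⟩
    | add a b ha hb =>
      obtain ⟨a, rfl⟩ := ha
      obtain ⟨b, rfl⟩ := hb
      exact ⟨a + b, (tmul_add _ _ _).symm⟩
  have hinj : Function.Injective θ := by
    rw [injective_iff_map_eq_zero]
    intro z hz
    obtain ⟨s, rfl⟩ := hone z
    rw [hθr] at hz
    have hs : s ∈ (maximalIdeal A).map (f.stalkMap x).hom := by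
      rw [← GeomRedFlat5.ker_specializes f w e]; exact hz
    have hle : (maximalIdeal A).map (f.stalkMap x).hom ≤
        RingHom.ker (Algebra.TensorProduct.includeRight : X.presheaf.stalk x →ₐ[A] κ ⊗[A] X.presheaf.stalk x).toRingHom := by
      rw [Ideal.map_le_iff_le_comap]
      intro a ha
      rw [Ideal.mem_comap, RingHom.mem_ker, ← hS]
      show (1 : κ) ⊗ₜ[A] algebraMap A _ a = 0
      rw [Algebra.algebraMap_eq_smul_one, tmul_smul, smul_tmul', Algebra.smul_def, mul_one,
        show algebraMap A κ a = 0 from (IsLocalRing.residue_eq_zero_iff a).2 ha, zero_tmul]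
    exact hle hs
  have hsurj : Function.Surjective θ := fun v => by
    obtain ⟨s, hs⟩ := GeomRedFlat5.surjective_specializes f w e v
    exact ⟨1 ⊗ₜ s, (hθr s).trans hs⟩
  exact ⟨inferInstanceAs (Algebra κ (F.presheaf.stalk w)), hσ.symm, ⟨AlgEquiv.ofBijective θ ⟨hinj, hsurj⟩⟩⟩

/-- The conditions on local rings. -/
theorem isDomain_closedFibre (x : X) [Algebra (Y.presheaf.stalk (f.base x)) (X.presheaf.stalk x)]
    (hS : algebraMap (Y.presheaf.stalk (f.base x)) (X.presheaf.stalk x) = (f.stalkMap x).hom)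
    (hint : FBase.IsGeomPtIntegralAt (f.fiberToSpecResidueField (f.base x)) (f.asFiber x)) :
    IsDomain (ResidueField (Y.presheaf.stalk (f.base x)) ⊗[Y.presheaf.stalk (f.base x)] X.presheaf.stalk x) := by
  obtain ⟨_, -, ⟨e⟩⟩ := exists_closedFibre_equiv f x hS
  let t := f.fiberToSpecResidueField (f.base x)
  let κ := ResidueField (Y.presheaf.stalk (f.base x))
  obtain ⟨x', hx'⟩ := (FBaseLib.surjective_bcπ t κ).surj (f.asFiber x)
  haveI : Flat (FBase.bcπ t κ) := MorphismProperty.pullback_fst _ _ inferInstance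
  have h1 : IsDomain ((f.fiber (f.base x)).presheaf.stalk (f.asFiber x)) :=
    hx' ▸ FBaseLib.stalk_isDomain_of_flat (FBase.bcπ t κ) x' (hint κ x' hx')
  haveI := h1
  exact e.toRingEquiv.toMulEquiv.isDomain _

/-- Domains in extensions of the residue field. -/
theorem isDomain_localization_tensor (x : X) [Algebra (Y.presheaf.stalk (f.base x)) (X.presheaf.stalk x)]
    (hS : algebraMap (Y.presheaf.stalk (f.base x)) (X.presheaf.stalk x) = (f.stalkMap x).hom)
    (hint : FBase.IsGeomPtIntegralAt (f.fiberToSpecResidueField (f.base x)) (f.asFiber x))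
    (K : Type u) [Field K] [Algebra (Y.presheaf.stalk (f.base x)) K]
    (hm : ∀ a ∈ maximalIdeal (Y.presheaf.stalk (f.base x)), algebraMap _ K a = 0)
    (q : Ideal (K ⊗[Y.presheaf.stalk (f.base x)] X.presheaf.stalk x)) [q.IsPrime]
    (hq : q.comap (Algebra.TensorProduct.includeRight :
      X.presheaf.stalk x →ₐ[Y.presheaf.stalk (f.base x)] K ⊗[Y.presheaf.stalk (f.base x)] X.presheaf.stalk x).toRingHom =
        maximalIdeal (X.presheaf.stalk x)) :
    IsDomain (Localization.AtPrime q) := by
  obtain ⟨_, ha, ⟨e⟩⟩ := exists_closedFibre_equiv f x hS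
  let A := Y.presheaf.stalk (f.base x)
  let κ := ResidueField A
  let O := (f.fiber (f.base x)).presheaf.stalk (f.asFiber x)
  letI : Algebra κ K := (Ideal.Quotient.lift (maximalIdeal A) (algebraMap A K) hm : κ →+* K).toAlgebra
  haveI : IsScalarTower A κ K := IsScalarTower.of_algebraMap_eq fun _ => rfl
  let ε : O ⊗[κ] K ≃+* K ⊗[A] X.presheaf.stalk x :=
    (((Algebra.TensorProduct.comm κ O K).trans
      (Algebra.TensorProduct.congr (AlgEquiv.refl : K ≃ₐ[κ] K) e.symm))).toRingEquiv.trans
      (Algebra.TensorProduct.cancelBaseChange A κ K K (X.presheaf.stalk x)).toRingEquiv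
  let q' := q.comap ε.toRingHom
  haveI : q'.IsPrime := Ideal.IsPrime.comap _
  have hone : ∀ z : κ ⊗[A] X.presheaf.stalk x, ∃ s, z = 1 ⊗ₜ s := by
    intro z
    induction z using TensorProduct.induction_on with
    | zero => exact ⟨0, by simp⟩
    | tmul r s =>
      obtain ⟨a, rfl⟩ := IsLocalRing.residue_surjective r
      exact ⟨a • s, by rw [← smul_tmul, Algebra.smul_def, mul_one]; rfl⟩
    | add a b ha hb =>
      obtain ⟨a, rfl⟩ := ha
      obtain ⟨b, rfl⟩ := hb
      exact ⟨a + b, (tmul_add _ _ _).symm⟩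
  have hε : ∀ s, ε (e (1 ⊗ₜ s) ⊗ₜ[κ] (1 : K)) = (1 : K) ⊗ₜ[A] s := fun s => by
    show Algebra.TensorProduct.cancelBaseChange A κ K K (X.presheaf.stalk x)
      ((1 : K) ⊗ₜ[κ] e.symm (e (1 ⊗ₜ s))) = _
    rw [e.symm_apply_apply, Algebra.TensorProduct.cancelBaseChange_tmul, one_smul]
  have hq' : q'.comap (algebraMap O (O ⊗[κ] K)) = maximalIdeal O := by
    ext o
    obtain ⟨z, rfl⟩ := e.surjective o
    obtain ⟨s, rfl⟩ := hone z
    show ε (e (1 ⊗ₜ s) ⊗ₜ[κ] (1 : K)) ∈ q ↔ _
    rw [hε, show (1 : K) ⊗ₜ[A] s ∈ q ↔ s ∈ maximalIdeal (X.presheaf.stalk x) from by rw [← hq]; rfl]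
    haveI : IsLocalRing (κ ⊗[A] X.presheaf.stalk x) := e.symm.toRingEquiv.isLocalRing
    haveI : IsLocalHom (Algebra.TensorProduct.includeRight :
        X.presheaf.stalk x →ₐ[A] κ ⊗[A] X.presheaf.stalk x).toRingHom :=
      IsLocalHom.of_surjective _ fun z => by obtain ⟨s, rfl⟩ := hone z; exact ⟨s, rfl⟩
    simp only [mem_maximalIdeal, mem_nonunits_iff, not_iff_not]
    exact ⟨fun h => (h.map (Algebra.TensorProduct.includeRight :
        X.presheaf.stalk x →ₐ[A] κ ⊗[A] X.presheaf.stalk x)).map e, fun h =>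
      isUnit_of_map_unit (Algebra.TensorProduct.includeRight :
        X.presheaf.stalk x →ₐ[A] κ ⊗[A] X.presheaf.stalk x).toRingHom s
        ((MulEquiv.isUnit_map e.toMulEquiv).1 h)⟩
  obtain ⟨x', hx', hdom⟩ := exists_point_stalk (f.fiberToSpecResidueField (f.base x)) (f.asFiber x) K ha q' hq'
  haveI := hdom (hint K x' hx')
  exact (IsLocalization.ringEquivOfRingEquiv (Localization.AtPrime q') (Localization.AtPrime q) ε
    (show q'.primeCompl.map ε.toMonoidHom = q.primeCompl from by
      ext y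
      constructor
      · rintro ⟨z, hz, rfl⟩; exact hz
      · intro hy; exact ⟨ε.symm y, fun h => hy (by simpa [q'] using h), ε.apply_symm_apply y⟩)).symm.toMulEquiv.isDomain _

end Groth.Agent.H1PtInt
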