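import Groth.Agent.H1PtInt.Main
import Groth.Agent.QHomeo.OpenAt
import Groth.Agent.UnivOpen.GeomUnibranch
import Groth.Agent.H23.RedSub
import Groth.Agent.H23.GysinPb
import Groth.Agent.SchTop.Closed

/-!
# Reduction to a reduced base
-/

set_option autoImplicit false
set_option linter.style.haveILetI false

universe u

open CategoryTheory Limits AlgebraicGeometry IsLocalRing TopologicalSpace

namespace Groth.Agent.H1PtInt

variable {X Y : Scheme.{u}}

/-- Geometric pointwise integrality of fibres passes to base changes. -/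
theorem ptIntegral_of_isPullback {X' Y' : Scheme.{u}} {f : X ⟶ Y} {p : X' ⟶ X} {q : X' ⟶ Y'} {g : Y' ⟶ Y}
    (h : IsPullback p q f g) (z : X')
    (hint : FBase.IsGeomPtIntegralAt (f.fiberToSpecResidueField (f.base (p.base z))) (f.asFiber (p.base z))) :
    FBase.IsGeomPtIntegralAt (q.fiberToSpecResidueField (q.base z)) (q.asFiber z) := by
  intro K _ _ x' hx'
  have hgy : g (q z) = f (p z) := by rw [← Scheme.Hom.comp_apply, ← h.w]; rfl
  let ρ : Y.residueField (f (p z)) ⟶ Y'.residueField (q z) :=
    (Y.residueFieldCongr hgy).inv ≫ g.residueFieldMap (q z)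
  have hρ : Spec.map ρ ≫ Y.fromSpecResidueField (f (p z)) = Y'.fromSpecResidueField (q z) ≫ g := by
    simp only [ρ, Spec.map_comp, Category.assoc, Scheme.residueFieldCongr_inv,
      Scheme.residueFieldCongr_fromSpecResidueField, Scheme.Hom.SpecMap_residueFieldMap_fromSpecResidueField]
  let φ : Y'.residueField (q z) ⟶ CommRingCat.of K :=
    CommRingCat.ofHom (algebraMap (IsLocalRing.ResidueField (Y'.presheaf.stalk (q z))) K)
  obtain ⟨e₁, he₁⟩ := GeomRedFlat5.exists_bcIso q (q.base z) (K := K) φ rfl
  have hg : Spec.map (ρ ≫ φ) ≫ Y.fromSpecResidueField (f (p z)) =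
      (Spec.map φ ≫ Y'.fromSpecResidueField (q z)) ≫ g := by
    rw [Spec.map_comp, Category.assoc, Category.assoc, hρ]
  have sq := (IsPullback.of_hasPullback q (Spec.map φ ≫ Y'.fromSpecResidueField (q z))).paste_horiz h
  rw [← hg] at sq
  letI : Algebra (IsLocalRing.ResidueField (Y.presheaf.stalk (f.base (p.base z)))) K := (ρ ≫ φ).hom.toAlgebra
  obtain ⟨e₂, he₂⟩ := GeomRedFlat5.exists_bcIso f (f.base (p.base z)) (K := K) (ρ ≫ φ) rfl
  let e := e₁ ≪≫ sq.isoPullback ≪≫ e₂.symm
  have hev : e.hom ≫ FBase.bcπ (f.fiberToSpecResidueField (f.base (p.base z))) K ≫ f.fiberι (f.base (p.base z)) =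
      FBase.bcπ (q.fiberToSpecResidueField (q.base z)) K ≫ q.fiberι (q.base z) ≫ p := by
    rw [← he₂]
    simp only [e, Iso.trans_hom, Iso.symm_hom, Category.assoc, Iso.inv_hom_id_assoc]
    rw [sq.isoPullback_hom_fst, ← Category.assoc, he₁, Category.assoc]
  have hv : (FBase.bcπ (f.fiberToSpecResidueField (f.base (p.base z))) K).base (e.hom.base x') =
      f.asFiber (p.base z) := by
    apply (f.fiberι _).isEmbedding.injective
    rw [f.fiberι_asFiber, ← Scheme.Hom.comp_apply, ← Scheme.Hom.comp_apply, hev, Scheme.Hom.comp_apply,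
      Scheme.Hom.comp_apply, hx', q.fiberι_asFiber]
  exact @MulEquiv.isDomain _ _ _ _ (hint K _ hv) (asIso (e.hom.stalkMap x')).commRingCatIsoToRingEquiv.symm.toMulEquiv

/-- The stalk map of a surjective closed immersion from a reduced scheme is the reduction map. -/
theorem ker_stalkMap_eq_nilradical {D : Scheme.{u}} (j : D ⟶ Y) [IsClosedImmersion j] [Surjective j]
    [IsReduced D] (d : D) : RingHom.ker (j.stalkMap d).hom = nilradical (Y.presheaf.stalk (j d)) := by
  refine le_antisymm (fun a ha => ?_) fun a ha => ?_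
  · refine nilpotent_iff_mem_prime.2 fun Q hQ => ?_
    let Qp : Spec (Y.presheaf.stalk (j d)) := ⟨Q, hQ⟩
    obtain ⟨η, hη⟩ := j.surjective (Y.fromSpecStalk (j d) Qp)
    have h1 : j η ⤳ j d := by
      have : Y.fromSpecStalk (j d) Qp ∈ Set.range (Y.fromSpecStalk (j d)) := ⟨_, rfl⟩
      rw [Scheme.range_fromSpecStalk] at this
      rwa [hη]
    have h2 : η ∈ Set.range (D.fromSpecStalk d) := by
      rw [Scheme.range_fromSpecStalk]
      exact j.isClosedEmbedding.isInducing.specializes_iff.1 h1
    obtain ⟨Q', rfl⟩ := h2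
    have h3 : PrimeSpectrum.comap (j.stalkMap d).hom Q' = Qp :=
      (Y.fromSpecStalk (j d)).isEmbedding.injective (by
        rw [← hη, ← Scheme.Hom.comp_apply (D.fromSpecStalk d) j, ← Scheme.SpecMap_stalkMap_fromSpecStalk]
        rfl)
    have h4 : a ∈ (PrimeSpectrum.comap (j.stalkMap d).hom Q').asIdeal := by
      show (j.stalkMap d).hom a ∈ Q'.asIdeal
      rw [show (j.stalkMap d).hom a = 0 from ha]
      exact zero_mem _
    rwa [h3] at h4
  · exact ((mem_nilradical.1 ha).map (j.stalkMap d).hom).eq_zero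

/-- A point has a unique component through it as soon as its generizations have a least element. -/
theorem existsUnique_component (x η₀ : X) (h : ∀ η : X, η ⤳ x → η₀ ⤳ η) :
    ∃! Z : Set X, Z ∈ irreducibleComponents (X : Type u) ∧ x ∈ Z := by
  have key : ∀ W ∈ irreducibleComponents X, x ∈ W → W = closure {η₀} := fun W hW hxW => by
    have hg := hW.1.closure_genericPoint (isClosed_of_mem_irreducibleComponents W hW)
    have h1 : hW.1.genericPoint ⤳ x := specializes_iff_mem_closure.2 (hg.symm ▸ hxW)
    have h2 : W ⊆ closure {η₀} := by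
      rw [← hg]
      exact closure_minimal (Set.singleton_subset_iff.mpr (h _ h1).mem_closure) isClosed_closure
    exact h2.antisymm (hW.2 isIrreducible_singleton.closure h2)
  refine ⟨irreducibleComponent x, ⟨irreducibleComponent_mem_irreducibleComponents x, mem_irreducibleComponent⟩, ?_⟩
  rintro Z ⟨hZ, hxZ⟩
  rw [key Z hZ hxZ, key _ (irreducibleComponent_mem_irreducibleComponents x) mem_irreducibleComponent]

/-- A reduced base change at the stalk. -/
theorem isDomain_and_isGeomUnibranch_of_ker {O O' : Type u} [CommRing O] [CommRing O'] [IsLocalRing O]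
    [IsLocalRing O'] [_root_.IsReduced O'] (π : O →+* O') (hπ : Function.Surjective π)
    (hker : RingHom.ker π = nilradical O) (h : CAlg2.IsGeomUnibranch O) :
    IsDomain O' ∧ CAlg2.IsGeomUnibranch O' := by
  let e1 : CAlg2.red O ≃+* O' :=
    (Ideal.quotEquivOfEq hker.symm).trans (RingHom.quotientKerEquivOfSurjective hπ)
  have hred : nilradical O' = ⊥ := nilradical_eq_zero O'
  let e2 : CAlg2.red O' ≃+* O' := (Ideal.quotEquivOfEq hred).trans (RingEquiv.quotientBot O')
  refine ⟨@MulEquiv.isDomain _ _ _ _ h.1.1 e1.symm.toMulEquiv, UnivOpen.GU.isGeomUnibranch ?_⟩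
  exact UnivOpen.GU.of_ringEquiv (e2.trans e1.symm) (UnivOpen.GU.of_isGeomUnibranch h)

/-- EGA IV 15.3.1: only one component through the point. -/
theorem existsUnique_component_of_univOpen [IsLocallyNoetherian Y] (f : X ⟶ Y) [LocallyOfFiniteType f] (x : X)
    (hopen : ∀ z : ↥(f.fiber (f.base x)), f.asFiber x ∈ closure {z} →
      (∀ z' : ↥(f.fiber (f.base x)), z ∈ closure {z'} → z' = z) →
      EGA43.IsUnivOpenAt f ((f.fiberι (f.base x)).base z))
    (hint : FBase.IsGeomPtIntegralAt (f.fiberToSpecResidueField (f.base x)) (f.asFiber x))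
    (hY : CAlg2.IsGeomUnibranch (Y.presheaf.stalk (f.base x))) :
    ∃! Z : Set X, Z ∈ irreducibleComponents (X : Type u) ∧ x ∈ Z := by
  let j := (Scheme.IdealSheafData.vanishingIdeal (⊤ : Closeds Y)).subschemeι
  haveI : IsReduced (Scheme.IdealSheafData.vanishingIdeal (⊤ : Closeds Y)).subscheme :=
    H23.RedSub.isReduced_vanishingIdeal _
  haveI : Surjective j := ⟨Set.range_eq_univ.1 (H23.RedSub.range_vanishingIdeal _)⟩
  haveI := LocallyOfFiniteType.isLocallyNoetherian j
  let p := pullback.fst f j
  let q := pullback.snd f j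
  haveI : IsClosedImmersion p := MorphismProperty.pullback_fst _ _ inferInstance
  haveI : Surjective p := MorphismProperty.pullback_fst _ _ inferInstance
  haveI : LocallyOfFiniteType q := MorphismProperty.pullback_snd _ _ inferInstance
  obtain ⟨x', rfl⟩ := p.surjective x
  have hjy : j (q x') = f (p x') := by
    rw [← Scheme.Hom.comp_apply, ← Scheme.Hom.comp_apply, pullback.condition]
  have key : ∀ y : Y, y = f (p x') → CAlg2.IsGeomUnibranch (Y.presheaf.stalk y) := by
    rintro _ rfl; exact hY
  obtain ⟨hdom', hY'⟩ := isDomain_and_isGeomUnibranch_of_ker (j.stalkMap (q x')).hom (j.stalkMap_surjective _)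
    (ker_stalkMap_eq_nilradical j (q x')) (key _ hjy)
  have hopen' : ∀ z : ↥(q.fiber (q.base x')), q.asFiber x' ∈ closure {z} →
      (∀ z' : ↥(q.fiber (q.base x')), z ∈ closure {z'} → z' = z) →
      EGA43.IsUnivOpenAt q ((q.fiberι (q.base x')).base z) := by
    intro z hz hzmax
    let z₁ := (q.fiberι (q.base x')).base z
    have hq1 : q.base z₁ = q.base x' := by
      have : z₁ ∈ q ⁻¹' {q.base x'} := by rw [← q.range_fiberι]; exact ⟨z, rfl⟩
      exact this
    have hz1 : z₁ ⤳ x' := by
      have := (specializes_iff_mem_closure.2 hz).map (q.fiberι (q.base x')).continuous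
      rwa [q.fiberι_asFiber] at this
    have hf1 : f.base (p.base z₁) = f.base (p.base x') := by
      rw [← Scheme.Hom.comp_apply, ← Scheme.Hom.comp_apply, pullback.condition, Scheme.Hom.comp_apply,
        Scheme.Hom.comp_apply, hq1]
      exact hjy
    obtain ⟨w, hw⟩ : p.base z₁ ∈ Set.range (f.fiberι (f.base (p.base x'))) := by
      rw [f.range_fiberι]; exact hf1
    refine QHomeo.univOpenAt_of_isPullback (hopen w ?_ ?_) (IsPullback.of_hasPullback f j) z₁ hw.symm
    · refine specializes_iff_mem_closure.1 ((f.fiberι _).isEmbedding.isInducing.specializes_iff.1 ?_)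
      rw [f.fiberι_asFiber, hw]
      exact hz1.map p.continuous
    · intro w' hw'
      obtain ⟨v, hv⟩ := p.surjective ((f.fiberι _).base w')
      have h1 : v ⤳ z₁ := by
        refine p.isClosedEmbedding.isInducing.specializes_iff.1 ?_
        rw [hv, ← hw]
        exact (specializes_iff_mem_closure.2 hw').map (f.fiberι _).continuous
      have h2 : q.base v = q.base x' := by
        refine j.isClosedEmbedding.injective ?_
        show j (q v) = j (q x')
        rw [hjy, ← Scheme.Hom.comp_apply, ← pullback.condition, Scheme.Hom.comp_apply, hv]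
        have : (f.fiberι (f.base (p.base x'))).base w' ∈ f ⁻¹' {f.base (p.base x')} := by
          rw [← f.range_fiberι]; exact ⟨w', rfl⟩
        exact this
      obtain ⟨v', hv'⟩ : v ∈ Set.range (q.fiberι (q.base x')) := by rw [q.range_fiberι]; exact h2
      have h3 : v' = z := hzmax v' (specializes_iff_mem_closure.1
        ((q.fiberι _).isEmbedding.isInducing.specializes_iff.1 (by rw [hv']; exact h1)))
      apply (f.fiberι _).isEmbedding.injective
      rw [hw, ← hv, ← hv', h3]
  have hd := (isDomain_stalk_and_flat q x' hopen' (ptIntegral_of_isPullback (IsPullback.of_hasPullback f j) x' hint)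
    hY' hdom').1
  haveI := hd
  obtain ⟨η₀, hη₀⟩ := SchTop.exists_least_generization x'
  refine existsUnique_component (p x') (p η₀) fun η hη => ?_
  obtain ⟨η', rfl⟩ := p.surjective η
  exact (hη₀ η' (p.isClosedEmbedding.isInducing.specializes_iff.1 hη)).map p.continuous

end Groth.Agent.H1PtInt
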