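import Groth.Agent.UnibEtale.Chart
import Groth.Agent.UnivOpen.AffineSpaceUnibranch
import Mathlib.AlgebraicGeometry.Morphisms.Smooth

/-!
# Local rings of smooth schemes over a geometrically unibranch local domain
-/

set_option autoImplicit false
set_option linter.style.haveILetI false

universe u

open AlgebraicGeometry CategoryTheory MvPolynomial

namespace Groth.Agent.H1PtInt

theorem isDomain_localization_mvPolynomial {A : Type u} [CommRing A] (σ : Type u)
    (P : Ideal (MvPolynomial σ A)) [P.IsPrime] (p : Ideal A) [p.IsPrime] (hp : p = P.comap C)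
    (h : IsDomain (Localization.AtPrime p)) : IsDomain (Localization.AtPrime P) := by
  let B := MvPolynomial σ (Localization.AtPrime p)
  let M := p.primeCompl.map (MvPolynomial.C (σ := σ))
  letI : Algebra (MvPolynomial σ A) B :=
    (MvPolynomial.map (σ := σ) (algebraMap A (Localization.AtPrime p))).toAlgebra
  haveI : IsLocalization M B := MvPolynomial.isLocalization p.primeCompl (Localization.AtPrime p)
  have hle : M ≤ P.primeCompl := by
    rintro _ ⟨a, ha, rfl⟩ hmem
    exact ha (hp.ge hmem)
  letI := IsLocalization.localizationAlgebraOfSubmonoidLe B (Localization.AtPrime P) M P.primeCompl hle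
  haveI := IsLocalization.localization_isScalarTower_of_submonoid_le B (Localization.AtPrime P) M P.primeCompl hle
  haveI : IsLocalization (P.primeCompl.map (algebraMap (MvPolynomial σ A) B)) (Localization.AtPrime P) :=
    IsLocalization.isLocalization_of_submonoid_le B (Localization.AtPrime P) M P.primeCompl hle
  haveI := h
  haveI : IsDomain B := inferInstance
  refine IsLocalization.isDomain_of_le_nonZeroDivisors (Localization.AtPrime P)
    (M := P.primeCompl.map (algebraMap (MvPolynomial σ A) B)) (le_nonZeroDivisors_of_noZeroDivisors ?_)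
  intro h0
  obtain ⟨f, hf, hf0⟩ := h0
  obtain ⟨m, hm⟩ := (IsLocalization.map_eq_zero_iff M B f).1 hf0
  exact (P.primeCompl.mul_mem (hle m.2) hf) (hm ▸ P.zero_mem)

/-- A point where the morphism is smooth, over a geometrically unibranch local domain. -/
theorem isDomain_stalk_of_smooth {X Y : Scheme.{u}} (f : X ⟶ Y) [LocallyOfFinitePresentation f] (z : X)
    (hz : z ∈ f.smoothLocus) (hd : IsDomain (Y.presheaf.stalk (f z)))
    (hu : CAlg2.IsGeomUnibranch (Y.presheaf.stalk (f z))) : IsDomain (X.presheaf.stalk z) := by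
  haveI : Smooth (f.smoothLocus.ι ≫ f) := by
    rw [← Scheme.Hom.smoothLocus_eq_top_iff, ← Scheme.Hom.preimage_smoothLocus_eq]
    exact Scheme.Opens.ι_preimage_self _
  let U : X.Opens := f.smoothLocus
  obtain ⟨W, hW, V, hV, hzV, e, hstd⟩ := Smooth.exists_isStandardSmooth (U.ι ≫ f) (⟨z, hz⟩ : U)
  obtain ⟨n, g₀, hg₀, het⟩ := hstd.exists_etale_mvPolynomial
  let σ := ULift.{u} (Fin n)
  let A := Γ(Y, W)
  let B := Γ((U : Scheme.{u}), V)
  let ρ := (MvPolynomial.renameEquiv A (Equiv.ulift.{u} : σ ≃ Fin n))
  let g : MvPolynomial σ A →+* B := g₀.comp ρ.toRingEquiv.toRingHom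
  have hget : g.Etale := RingHom.Etale.respectsIso.2 g₀ ρ.toRingEquiv het
  algebraize [g]
  let q := (hV.primeIdealOf ⟨⟨z, hz⟩, hzV⟩).asIdeal
  let P := q.comap g
  let p := (hW.primeIdealOf ⟨f z, e hzV⟩).asIdeal
  have hp : p = P.comap C := by
    show p = (q.comap g).comap C
    rw [Ideal.comap_comap, show g.comp C = ((U.ι ≫ f).appLE W V e).hom from ?_]
    · exact congr($(IsAffineOpen.comap_primeIdealOf_appLE W hW V hV e hzV).1).symm
    · rw [← hg₀, RingHom.comp_assoc]
      congr 1
      refine RingHom.ext fun a => ?_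
      show ρ (C a) = C a
      simp [ρ]
  have h1 : CAlg2.IsGeomUnibranch (Localization.AtPrime p) :=
    UnibEtale.isGeomUnibranch_of_ringEquiv (UnibEtale.stalkEquiv hW (e hzV)) hu
  have h2 : IsDomain (Localization.AtPrime p) := by
    haveI := hd
    exact (UnibEtale.stalkEquiv hW (x := f z) (e hzV)).symm.toMulEquiv.isDomain _
  have h3 := UnivOpen.isGeomUnibranch_localization_mvPolynomial σ P p hp h1
  have h4 := isDomain_localization_mvPolynomial σ P p hp h2
  haveI := (UnibEtale.atPrime_of_etale (MvPolynomial σ A) B P q rfl h3).2 h4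
  haveI : IsDomain ((U : Scheme.{u}).presheaf.stalk ⟨z, hz⟩) :=
    (UnibEtale.stalkEquiv hV hzV).toMulEquiv.isDomain _
  exact (asIso (U.ι.stalkMap ⟨z, hz⟩)).commRingCatIsoToRingEquiv.toMulEquiv.isDomain _

end Groth.Agent.H1PtInt
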