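import Groth.Agent.H1PtInt.Algebra
import Groth.Agent.H1PtInt.Smooth
import Groth.Agent.H1PtInt.Bridge
import Groth.Agent.GeomRedFlat5.Nhd
import Groth.Agent.GeomRedFlat5.Local
import Groth.Agent.EGA41Lib.FieldFS
import Groth.Agent.S2156

/-!
# The local ring at a point over a domain where the fibre is geometrically pointwise integral
-/

set_option autoImplicit false
set_option linter.style.haveILetI false

universe u

open CategoryTheory Limits AlgebraicGeometry IsLocalRing TensorProduct

namespace Groth.Agent.H1PtInt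

variable {X Y : Scheme.{u}} (f : X ⟶ Y)

theorem isGeomReducedAt_of_ptIntegral {k : Type u} [Field k] {F : Scheme.{u}}
    (t : F ⟶ Spec (CommRingCat.of k)) (w : F) (h : FBase.IsGeomPtIntegralAt t w) :
    FBase.IsGeomReducedAt t w := fun K _ _ x' hx' => by
  haveI := h K x' hx'
  infer_instance

/-- Formal smoothness of a stalk map over a field. -/
theorem mem_smoothLocus_of_formallySmooth {k : Type u} [Field k] {F : Scheme.{u}}
    (t : F ⟶ Spec (CommRingCat.of k)) [LocallyOfFinitePresentation t] (w : F) [Algebra k (F.presheaf.stalk w)]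
    (ha : Spec.map (CommRingCat.ofHom (algebraMap k (F.presheaf.stalk w))) = F.fromSpecStalk w ≫ t)
    (hfs : (algebraMap k (F.presheaf.stalk w)).FormallySmooth) : w ∈ t.smoothLocus := by
  rw [Scheme.Hom.mem_smoothLocus]
  let c : CommRingCat.of k ⟶ (Spec (CommRingCat.of k)).presheaf.stalk (t w) :=
    (Scheme.ΓSpecIso (CommRingCat.of k)).inv ≫ (Spec (CommRingCat.of k)).presheaf.germ ⊤ (t w) trivial
  have hc : CommRingCat.ofHom (algebraMap k (F.presheaf.stalk w)) = c ≫ t.stalkMap w := by
    apply Spec.map_injective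
    rw [ha, GeomRedFlat5.fromSpecStalk_comp_eq, Category.assoc, Scheme.Hom.germ_stalkMap]
    rfl
  have hcb : Function.Bijective c.hom := by
    let p : PrimeSpectrum k := t w
    let := StructureSheaf.stalkAlgebra k p
    exact (IsLocalization.atUnits k p.asIdeal.primeCompl
      (S := (Spec.structureSheaf k).presheaf.stalk p)
      (fun m hm => isUnit_iff_ne_zero.2 fun h => hm (h ▸ zero_mem _))).bijective
  let ec := RingEquiv.ofBijective c.hom hcb
  have h : (t.stalkMap w).hom = (algebraMap k (F.presheaf.stalk w)).comp ec.symm.toRingHom := by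
    refine RingHom.ext fun a => ?_
    obtain ⟨b, rfl⟩ := hcb.2 a
    show _ = algebraMap k _ (ec.symm (ec b))
    rw [ec.symm_apply_apply]
    exact congr($(hc).hom b).symm
  rw [h]
  exact RingHom.FormallySmooth.respectsIso.2 _ ec.symm hfs

/-- At a point maximal in its fibre, at which the fibre is geometrically reduced, the local ring of the fibre is a field. -/
theorem isField_fibre_stalk (z : X)
    (hmax : ∀ z' : X, z' ⤳ z → f.base z' = f.base z → z' = z)
    (hE : GeomRedFlat5.E f z) :
    IsField ((f.fiber (f.base z)).presheaf.stalk (f.asFiber z)) := by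
  letI : Algebra (Y.presheaf.stalk (f.base z)) (X.presheaf.stalk z) := (f.stalkMap z).hom.toAlgebra
  have hg := (GeomRedFlat5.isGeomReducedAt_fibre_iff f z rfl).1 hE
  obtain ⟨_, ha, ⟨e⟩⟩ := exists_closedFibre_equiv f z rfl
  let κ := ResidueField (Y.presheaf.stalk (f.base z))
  let F := f.fiber (f.base z)
  let O := F.presheaf.stalk (f.asFiber z)
  haveI := hg
  haveI : Algebra.IsGeometricallyReduced κ O :=
    Algebra.IsGeometricallyReduced.of_injective e.symm.toAlgHom e.symm.injective
  haveI : _root_.IsReduced O := Algebra.isReduced_of_isGeometricallyReduced (k := κ)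
  have hprime : ∀ Q : Ideal O, Q.IsPrime → Q = maximalIdeal O := fun Q hQ => by
    let v := F.fromSpecStalk (f.asFiber z) ⟨Q, hQ⟩
    have hv : v ⤳ f.asFiber z := by
      have : v ∈ Set.range (F.fromSpecStalk (f.asFiber z)) := ⟨_, rfl⟩
      rwa [Scheme.range_fromSpecStalk] at this
    have h1 : f.fiberι (f.base z) v ⤳ z := by
      have := hv.map (f.fiberι (f.base z)).continuous
      rwa [f.fiberι_asFiber] at this
    have h2 : f.base (f.fiberι (f.base z) v) = f.base z := by
      have : f.fiberι (f.base z) v ∈ f ⁻¹' {f.base z} := by rw [← f.range_fiberι]; exact ⟨v, rfl⟩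
      exact this
    have h3 : v = f.asFiber z :=
      (f.fiberι (f.base z)).isEmbedding.injective ((hmax _ h1 h2).trans (f.fiberι_asFiber z).symm)
    have h4 : (⟨Q, hQ⟩ : PrimeSpectrum O) = closedPoint O :=
      (F.fromSpecStalk (f.asFiber z)).isEmbedding.injective (h3.trans F.fromSpecStalk_closedPoint.symm)
    exact congrArg PrimeSpectrum.asIdeal h4
  have hbot : maximalIdeal O = ⊥ := by
    refine le_bot_iff.1 fun a ha => ?_
    have : IsNilpotent a := nilpotent_iff_mem_prime.2 fun Q hQ => (hprime Q hQ).symm ▸ ha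
    rw [this.eq_zero]
    exact zero_mem _
  have hfld : IsField O := isField_iff_maximalIdeal_eq.2 hbot
  exact hfld

/-- A point maximal in its fibre, at which the fibre is geometrically reduced, is a smooth point of the fibre. -/
theorem asFiber_mem_smoothLocus (z : X) [LocallyOfFiniteType f]
    [LocallyOfFinitePresentation (f.fiberToSpecResidueField (f.base z))]
    (hmax : ∀ z' : X, z' ⤳ z → f.base z' = f.base z → z' = z)
    (hE : GeomRedFlat5.E f z) :
    f.asFiber z ∈ (f.fiberToSpecResidueField (f.base z)).smoothLocus := by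
  letI : Algebra (Y.presheaf.stalk (f.base z)) (X.presheaf.stalk z) := (f.stalkMap z).hom.toAlgebra
  have hg := (GeomRedFlat5.isGeomReducedAt_fibre_iff f z rfl).1 hE
  obtain ⟨_, ha, ⟨e⟩⟩ := exists_closedFibre_equiv f z rfl
  let κ := ResidueField (Y.presheaf.stalk (f.base z))
  let F := f.fiber (f.base z)
  let t : F ⟶ Spec (CommRingCat.of κ) := f.fiberToSpecResidueField (f.base z)
  let O := F.presheaf.stalk (f.asFiber z)
  haveI := hg
  haveI : Algebra.IsGeometricallyReduced κ O :=
    Algebra.IsGeometricallyReduced.of_injective e.symm.toAlgHom e.symm.injective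
  have hfld : IsField O := isField_fibre_stalk f z hmax hE
  letI := hfld.toField
  have hfs : (algebraMap κ O).FormallySmooth :=
    RingHom.formallySmooth_algebraMap.2 (EGA41Lib.FieldFS.formallySmooth_of_isGeometricallyReduced κ O)
  exact @mem_smoothLocus_of_formallySmooth κ _ F t
    (inferInstanceAs (LocallyOfFinitePresentation (f.fiberToSpecResidueField (f.base z)))) (f.asFiber z) _ ha hfs

/-- EGA IV 15.3.1 over a domain. -/
theorem isDomain_stalk_and_flat [IsLocallyNoetherian Y] [LocallyOfFiniteType f] (x : X)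
    (hopen : ∀ z : ↥(f.fiber (f.base x)), f.asFiber x ∈ closure {z} →
      (∀ z' : ↥(f.fiber (f.base x)), z ∈ closure {z'} → z' = z) →
      EGA43.IsUnivOpenAt f ((f.fiberι (f.base x)).base z))
    (hint : FBase.IsGeomPtIntegralAt (f.fiberToSpecResidueField (f.base x)) (f.asFiber x))
    (hY : CAlg2.IsGeomUnibranch (Y.presheaf.stalk (f.base x)))
    (hdom : IsDomain (Y.presheaf.stalk (f.base x))) :
    IsDomain (X.presheaf.stalk x) ∧ (f.stalkMap x).hom.Flat := by
  haveI := hdom
  obtain ⟨U, hxU, hFE⟩ := GeomRedFlat5.exists_FE_nhd f x hopen (isGeomReducedAt_of_ptIntegral _ _ hint)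
    inferInstance
  obtain ⟨hflat, hE⟩ := hFE x hxU
  refine ⟨?_, hflat⟩
  haveI : _root_.IsReduced (X.presheaf.stalk x) := GeomRedFlat5.isReduced_stalk_noetherian f x hflat hE
  let A := Y.presheaf.stalk (f.base x)
  let S := X.presheaf.stalk x
  letI : Algebra A S := (f.stalkMap x).hom.toAlgebra
  haveI : IsLocalHom (algebraMap A S) := inferInstanceAs (IsLocalHom (f.stalkMap x).hom)
  haveI : Module.Flat A S := hflat
  haveI : Algebra.EssFiniteType A S := LocallyOfFiniteType.stalkMap f x
  have hS : IsDomain (ResidueField A ⊗[A] S) := isDomain_closedFibre f x rfl hint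
  have hle : ∀ P ∈ minimalPrimes S, P ≤ (maximalIdeal A).map (algebraMap A S) :=
    minimalPrime_le hS fun K _ _ hm q _ hq => isDomain_localization_tensor f x rfl hint K hm q hq
  let J := (maximalIdeal A).map (algebraMap A S)
  have hJk : J = RingHom.ker (Algebra.TensorProduct.includeRight : S →ₐ[A] ResidueField A ⊗[A] S).toRingHom := by
    refine le_antisymm ?_ fun a ha => mem_map_of_tmul_eq_zero a ha
    rw [Ideal.map_le_iff_le_comap]
    intro a ha
    show (1 : ResidueField A) ⊗ₜ[A] algebraMap A S a = 0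
    rw [Algebra.algebraMap_eq_smul_one, tmul_smul, smul_tmul', Algebra.smul_def, mul_one,
      show algebraMap A (ResidueField A) a = 0 from (IsLocalRing.residue_eq_zero_iff a).2 ha, zero_tmul]
  haveI := hS
  haveI hJ : J.IsPrime := hJk ▸ RingHom.ker_isPrime _
  let P : Spec (X.presheaf.stalk x) := ⟨J, hJ⟩
  let z := X.fromSpecStalk x P
  have hzx : z ⤳ x := by
    have : z ∈ Set.range (X.fromSpecStalk x) := ⟨_, rfl⟩
    rwa [Scheme.range_fromSpecStalk] at this
  have hcomp : ∀ Q : Spec (X.presheaf.stalk x), f.base (X.fromSpecStalk x Q) =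
      Y.fromSpecStalk (f.base x) (PrimeSpectrum.comap (f.stalkMap x).hom Q) := fun Q => by
    rw [← Scheme.Hom.comp_apply, ← Scheme.SpecMap_stalkMap_fromSpecStalk]
    rfl
  have hPm : PrimeSpectrum.comap (f.stalkMap x).hom P = closedPoint A :=
    PrimeSpectrum.ext (le_antisymm (le_maximalIdeal (Ideal.IsPrime.comap _).ne_top) Ideal.le_comap_map)
  have hfz : f.base z = f.base x := by
    rw [hcomp P, hPm]; exact Y.fromSpecStalk_closedPoint
  have hmax : ∀ z' : X, z' ⤳ z → f.base z' = f.base z → z' = z := by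
    intro z' hz' hfz'
    have : z' ∈ Set.range (X.fromSpecStalk x) := by
      rw [Scheme.range_fromSpecStalk]; exact hz'.trans hzx
    obtain ⟨Q, rfl⟩ := this
    have hQP : Q ⤳ P := (X.fromSpecStalk x).isEmbedding.isInducing.specializes_iff.1 hz'
    have h1 : PrimeSpectrum.comap (f.stalkMap x).hom Q = closedPoint A :=
      (Y.fromSpecStalk (f.base x)).isEmbedding.injective
        (by rw [← hcomp Q, hfz', hfz, Y.fromSpecStalk_closedPoint])
    have hQ : Q.asIdeal = J := le_antisymm ((PrimeSpectrum.le_iff_specializes _ _).2 hQP)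
      (Ideal.map_le_iff_le_comap.2 (congrArg PrimeSpectrum.asIdeal h1).ge)
    rw [show Q = P from PrimeSpectrum.ext hQ]
  have hzU : z ∈ U := hzx.mem_open U.isOpen hxU
  obtain ⟨hflz, hEz⟩ := hFE z hzU
  haveI : LocallyOfFinitePresentation f := GeomRedFlat5.lfp_of_noetherian f
  haveI : LocallyOfFinitePresentation (f.fiberToSpecResidueField (f.base z)) :=
    MorphismProperty.pullback_snd _ _ inferInstance
  have hsm : z ∈ f.smoothLocus := (S2156.result f z).2 ⟨hflz, asFiber_mem_smoothLocus f z hmax hEz⟩
  have key : ∀ y' : Y, y' = f.base x →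
      IsDomain (Y.presheaf.stalk y') ∧ CAlg2.IsGeomUnibranch (Y.presheaf.stalk y') := by
    rintro _ rfl; exact ⟨hdom, hY⟩
  have hOz : IsDomain (X.presheaf.stalk z) :=
    isDomain_stalk_of_smooth f z hsm (key _ hfz).1 (key _ hfz).2
  let j := X.fromSpecStalk x
  haveI : Flat j := H23.RatExtend.flat_fromSpecStalk X x
  haveI h1 : IsDomain ((Spec (X.presheaf.stalk x)).presheaf.stalk P) :=
    @MulEquiv.isDomain _ _ _ _ hOz
      (RingEquiv.ofBijective (j.stalkMap P).hom (AssLib.bijective_stalkMap j P)).symm.toMulEquiv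
  haveI h2 : IsDomain (Localization.AtPrime J) :=
    @MulEquiv.isDomain _ _ _ _ h1 (StructureSheaf.stalkIso _ P).toRingEquiv.toMulEquiv
  let K0 := RingHom.ker (algebraMap S (Localization.AtPrime J))
  haveI : K0.IsPrime := RingHom.ker_isPrime _
  have hmin : ∀ Q ∈ minimalPrimes S, Q = K0 := fun Q hQ => by
    have h3 : K0 ≤ Q := fun a ha => by
      obtain ⟨s, hs⟩ := (IsLocalization.map_eq_zero_iff J.primeCompl (Localization.AtPrime J) a).1 ha
      exact (hQ.1.1.mem_or_mem (show (s : S) * a ∈ Q from hs ▸ zero_mem _)).resolve_left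
        fun h => s.2 (hle Q hQ h)
    exact le_antisymm (hQ.2 ⟨inferInstance, bot_le⟩ h3) h3
  have hK0 : K0 = ⊥ := by
    refine le_bot_iff.1 fun a ha => ?_
    have : IsNilpotent a := nilpotent_iff_mem_prime.2 fun Q hQ => by
      obtain ⟨Q', hQ', hle'⟩ := Ideal.exists_minimalPrimes_le (bot_le (a := Q))
      exact hle' (hmin Q' hQ' ▸ ha)
    rw [this.eq_zero]
    exact zero_mem _
  exact Function.Injective.isDomain (algebraMap S (Localization.AtPrime J))
    ((RingHom.injective_iff_ker_eq_bot _).2 hK0)

end Groth.Agent.H1PtInt
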